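import Cfsg.Agent.H715.DPU.Geo
import Cfsg.Agent.H735.DPU.Pow
import Cfsg.Agent.H199.DPL.Frame

/-!
# S4247, row PSU, task E: the supports are `K`-invariant (helper199)
-/

set_option autoImplicit false
set_option linter.unusedSectionVars false

namespace Cfsg.Agent.H199.DPU

open Subgroup Cfsg Matrix Module Cfsg.Agent.H988.CPi Cfsg.Agent.H571.RV Cfsg.Agent.H817.DPi Cfsg.Agent.H380.RV
  Cfsg.Agent.H553.RV Cfsg.Agent.LieClassical.HermBasic Cfsg.Agent.H170.HL Cfsg.Agent.H556.HallRowAbs Cfsg.Agent.H167.OP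
open Cfsg.Agent.H715.DPU
open Cfsg.Agent.ClassicalGeometry.PSUAutBasic (pr exists_center_mul act_suScalar)
open Cfsg.Agent.ClassicalGeometry.PSUAutCount (gm toAut toAut_pr semiConj act_semiConj gm_mul gm_inj herm_gm
  gm_mulVec_inv gm_inv_mulVec)

section
variable {F : Type*} [Field F] {n q : ℕ}

/-- the semilinear map -/
def sg (A : GU n F q) (τ : F ≃+* F) (v : Fin n → F) : Fin n → F := gm A *ᵥ fun j => τ (v j)

theorem sg_add (A : GU n F q) (τ : F ≃+* F) (v w : Fin n → F) : sg A τ (v + w) = sg A τ v + sg A τ w := by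
  rw [sg, sg, sg, ← mulVec_add]
  congr 1
  funext j
  exact map_add τ _ _

theorem sg_zero (A : GU n F q) (τ : F ≃+* F) : sg A τ 0 = 0 := by
  have h := sg_add A τ 0 0
  rw [add_zero] at h
  exact left_eq_add.mp h

theorem sg_sum {ι : Type*} (A : GU n F q) (τ : F ≃+* F) (s : Finset ι) (v : ι → Fin n → F) :
    sg A τ (∑ i ∈ s, v i) = ∑ i ∈ s, sg A τ (v i) := by
  classical
  induction s using Finset.induction_on with
  | empty => rw [Finset.sum_empty, Finset.sum_empty, sg_zero]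
  | insert i s hi ih => rw [Finset.sum_insert hi, Finset.sum_insert hi, sg_add, ih]

theorem sg_neg (A : GU n F q) (τ : F ≃+* F) (v : Fin n → F) : sg A τ (-v) = -sg A τ v := by
  rw [eq_neg_iff_add_eq_zero, ← sg_add, neg_add_cancel, sg_zero]

theorem sg_sub (A : GU n F q) (τ : F ≃+* F) (v w : Fin n → F) : sg A τ (v - w) = sg A τ v - sg A τ w := by
  rw [sub_eq_add_neg, sg_add, sg_neg, ← sub_eq_add_neg]

theorem sg_smul (A : GU n F q) (τ : F ≃+* F) (c : F) (v : Fin n → F) : sg A τ (c • v) = τ c • sg A τ v := by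
  rw [sg, sg, ← mulVec_smul]
  congr 1
  funext j
  exact map_mul τ _ _

theorem sg_inj (A : GU n F q) (τ : F ≃+* F) : Function.Injective (sg A τ) := by
  intro v w h
  have h1 := congrArg (fun x => gm A⁻¹ *ᵥ x) h
  simp only [sg, gm_inv_mulVec] at h1
  funext j
  exact τ.injective (congrFun h1 j)

theorem gm_jU (g : SU n F q) (v : Fin n → F) :
    gm (jU n F q g) *ᵥ v = Cfsg.Agent.LieClassical.HermSiegel.act g v := rfl

end

variable {F : Type} [Field F] [Fintype F] {n q a t : ℕ} {π : Set ℕ}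

/-- the elements of `H ∩ SU` commute with the semilinear map up to scalars -/
theorem key (hF : Fintype.card F = q ^ 2) (hn : 3 ≤ n) {P : Subgroup (PSU n F q)} {K : Subgroup (MulAut (PSU n F q))}
    {H : Subgroup (GU n F q)} (hU : Up π P H) (hfix : ∀ k ∈ K, ∀ x ∈ P, k x = x) {A : GU n F q} {τ : F ≃+* F}
    (hA : toAut A τ ∈ K) {g : SU n F q} (hg : jU n F q g ∈ H) :
    ∃ c : F, c ^ n = 1 ∧ c ^ (q + 1) = 1 ∧ ∀ x, sg A τ (gm (jU n F q g) *ᵥ x) = c • gm (jU n F q g) *ᵥ sg A τ x := by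
  have h1 : toAut A τ (pr n F q g) = pr n F q g := hfix _ hA _ ((hU.mem _).mpr ⟨g, hg, rfl⟩)
  change pr n F q (semiConj A τ g) = pr n F q g at h1
  obtain ⟨z, hz, h2⟩ := exists_center_mul h1.symm
  obtain ⟨c, hcn, hcq, rfl⟩ := (Cfsg.Agent.LieClassical.SUBasic.mem_center_SU_iff hF hn z).mp hz
  refine ⟨c, hcn, hcq, fun x => ?_⟩
  have h3 := act_semiConj A τ g x
  rw [h2, Cfsg.Agent.LieClassical.HermSiegel.act_mul, act_suScalar, Cfsg.Agent.LieClassical.HermSiegel.act_smul] at h3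
  exact h3.symm

/-- powers -/
theorem key_pow {A : GU n F q} {τ : F ≃+* F} {h : GU n F q} {c : F}
    (hc : ∀ x, sg A τ (gm h *ᵥ x) = c • gm h *ᵥ sg A τ x) (k : ℕ) (x : Fin n → F) :
    sg A τ (gm (h ^ k) *ᵥ x) = c ^ k • gm (h ^ k) *ᵥ sg A τ x := by
  induction k with
  | zero => simp [Cfsg.Agent.ClassicalGeometry.PSUAutCount.gm_one]
  | succ k ih =>
    rw [pow_succ', gm_mul, ← mulVec_mulVec, hc, ih, mulVec_smul, smul_smul, ← pow_succ', mulVec_mulVec]

theorem key_one (hn : 3 ≤ n) {A : GU n F q} {τ : F ≃+* F} {h : GU n F q} {c : F}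
    (hc : ∀ x, sg A τ (gm h *ᵥ x) = c • gm h *ᵥ sg A τ x) {k : ℕ} (hk : h ^ k = 1) : c ^ k = 1 := by
  have h1 := key_pow hc k (fun _ => 1)
  rw [hk, Cfsg.Agent.ClassicalGeometry.PSUAutCount.gm_one, one_mulVec, one_mulVec] at h1
  have h2 : sg A τ (fun _ : Fin n => (1 : F)) ≠ 0 := by
    intro h0
    have h3 : (fun _ : Fin n => (1 : F)) = 0 := sg_inj A τ (by rw [h0, sg_zero])
    exact one_ne_zero (congrFun h3 ⟨0, by omega⟩)
  have h4 : (c ^ k - 1) • sg A τ (fun _ : Fin n => (1 : F)) = 0 := by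
    rw [sub_smul, one_smul, ← h1, sub_self]
  rcases smul_eq_zero.mp h4 with h | h
  · exact sub_eq_zero.mp h
  · exact absurd h h2

/-- elements of determinant one -/
theorem exists_jU {h : GU n F q} (hd : dGU n F q h = 1) : ∃ g : SU n F q, jU n F q g = h := by
  have h1 : (gm h).det = 1 := by
    have := congrArg Units.val hd
    exact this
  exact ⟨⟨⟨h.1.1, h1⟩, fun u v => h.2 u v⟩, Subtype.ext (Units.ext rfl)⟩

theorem not_dvd_of_d (hz : eU q t ≠ 1) : ¬ t ∣ q + 1 := by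
  intro hd
  apply hz
  rw [eU, orderOf_eq_one_iff]
  have h1 : ((q + 1 : ℕ) : ZMod t) = 0 := (ZMod.natCast_eq_zero_iff _ _).mpr hd
  rw [Nat.cast_add, Nat.cast_one] at h1
  exact neg_eq_of_add_eq_zero_right h1

theorem dvd_of_d (hz : eU q t = 1) : t ∣ q + 1 := by
  rw [eU, orderOf_eq_one_iff] at hz
  rw [← ZMod.natCast_eq_zero_iff, Nat.cast_add, Nat.cast_one, ← hz]
  exact add_neg_cancel _

/-- the determinants of the frame -/
theorem det_frame (hF : Fintype.card F = q ^ 2) {H : Subgroup (GU n F q)} {z : Fin a → GU n F q} (hz : Fr q H t a z)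
    (hd : eU q t ≠ 1) (i : Fin a) : dGU n F q (z i) = 1 := by
  have h1 : ((dGU n F q (z i) : Fˣ) : F) ^ t = 1 := by
    rw [← Units.val_pow_eq_pow_val, ← map_pow, hz.pow i, map_one, Units.val_one]
  have h2 : ((dGU n F q (z i) : Fˣ) : F) ^ (q + 1) = 1 :=
    Cfsg.Agent.LieClassical.GUOrder.det_mul_frob_det hF (gm (z i)) fun u v => herm_gm (z i) u v
  exact Units.ext (eq_one_of_pow hz.ht h1 h2 (not_dvd_of_d hd))

/-- commuting with the frame -/
theorem comm_of_two (hF : Fintype.card F = q ^ 2) (hn : 3 ≤ n) {P : Subgroup (PSU n F q)}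
    {K : Subgroup (MulAut (PSU n F q))} {H : Subgroup (GU n F q)} (hU : Up π P H) (hfix : ∀ k ∈ K, ∀ x ∈ P, k x = x)
    {z : Fin a → GU n F q} (hz : Fr q H t a z) (hd : eU q t ≠ 1) {A : GU n F q} {τ : F ≃+* F} (hA : toAut A τ ∈ K)
    (i : Fin a) (x : Fin n → F) : sg A τ (gm (z i) *ᵥ x) = gm (z i) *ᵥ sg A τ x := by
  obtain ⟨g, hg⟩ := exists_jU (det_frame hF hz hd i)
  obtain ⟨c, -, hcq, hc⟩ := key hF hn hU hfix hA (g := g) (by rw [hg]; exact hz.fm.mem i)
  rw [hg] at hc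
  have hct := key_one hn hc (hz.pow i)
  have hc1 : c = 1 := eq_one_of_pow hz.ht hct hcq (not_dvd_of_d hd)
  rw [hc, hc1, one_smul]

/-! ## `d = 1` -/

section one

variable {P : Subgroup (PSU n F q)} {K : Subgroup (MulAut (PSU n F q))} {H : Subgroup (GU n F q)} {z : Fin a → GU n F q}

/-- the common fixed space is zero -/
theorem fix_zero (hz : Fr q H t a z) (hd : eU q t = 1) {v : Fin n → F} (hv : ∀ i, gm (z i) *ᵥ v = v) : v = 0 := by
  let U : Submodule F (Fin n → F) :=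
    { carrier := {v | ∀ i, gm (z i) *ᵥ v = v}
      add_mem' := fun {x y} hx hy i => by rw [mulVec_add, hx i, hy i]
      zero_mem' := fun i => mulVec_zero _
      smul_mem' := fun c x hx i => by rw [mulVec_smul, hx i] }
  have h1 : finrank F U < 1 := by
    rw [← hd]
    exact hz.fm.max U fun i v hv => hv i
  have h2 : U = ⊥ := Submodule.finrank_eq_zero.mp (by omega)
  have h3 : v ∈ U := hv
  rw [h2] at h3
  exact h3

theorem a_eq (hz : Fr q H t a z) (hd : eU q t = 1) : a = n := by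
  have hfin : Finite (GU n F q) := LieClassical.GUOrder.finite_GU n
  have h1 := Cfsg.Agent.H199.DPL.finrank_dec (ρ := rU n F q) (e := eU q) hz.ne hz.fm ⊥ (fun v => by
    rw [Submodule.mem_bot]
    constructor
    · rintro rfl i
      exact map_zero _
    · intro h
      exact fix_zero hz hd h)
  rw [finrank_bot, hd, finrank_fin_fun] at h1
  omega

/-- the elements of the frame commute up to determinants -/
theorem det_eq (hz : Fr q H t a z) (i j : Fin a) : dGU n F q (z i) = dGU n F q (z j) := by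
  obtain ⟨y, hy⟩ := hz.fm.perm (Equiv.swap i j)
  have h1 := congrArg (dGU n F q) (hy i)
  rw [Equiv.swap_apply_left, map_mul, map_mul, map_inv, mul_comm, inv_mul_cancel_left] at h1
  exact h1

/-- `y = z_i z_j⁻¹` commutes with the semilinear map -/
theorem comm_y (hF : Fintype.card F = q ^ 2) (hn : 3 ≤ n) (hU : Up π P H) (hfix : ∀ k ∈ K, ∀ x ∈ P, k x = x)
    (hz : Fr q H t a z) (h5 : n = 3 → eU q t = 1 → 5 ≤ t) (hd : eU q t = 1) {A : GU n F q} {τ : F ≃+* F}
    (hA : toAut A τ ∈ K) (i j : Fin a) (x : Fin n → F) :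
    sg A τ (gm (z i * (z j)⁻¹) *ᵥ x) = gm (z i * (z j)⁻¹) *ᵥ sg A τ x := by
  have hfin : Finite (GU n F q) := LieClassical.GUOrder.finite_GU n
  obtain ⟨g, hg⟩ := exists_jU (h := z i * (z j)⁻¹) (by rw [map_mul, map_inv, det_eq hz i j, mul_inv_cancel])
  obtain ⟨c, hcn, -, hc⟩ := key hF hn hU hfix hA (g := g) (by
    rw [hg]; exact H.mul_mem (hz.fm.mem i) (H.inv_mem (hz.fm.mem j)))
  rw [hg] at hc
  have hyt : (z i * (z j)⁻¹) ^ t = 1 := by
    have h1 : Commute (z i) (z j)⁻¹ := (show Commute (z i) (z j) from hz.fm.comm i j).inv_right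
    rw [h1.mul_pow, inv_pow, hz.pow i, hz.pow j, inv_one, mul_one]
  have hct := key_one hn hc hyt
  by_cases hc1 : c = 1
  · rw [hc, hc1, one_smul]
  exfalso
  have htn : t ∣ n := by
    by_contra h
    exact hc1 (eq_one_of_pow hz.ht hct hcn h)
  have hodd := hz.odd
  have ht := hz.ht
  have ht2 := ht.two_le
  have hn5 : 5 ≤ n := by
    by_contra h
    have h1 : n = 3 ∨ n = 4 := by omega
    rcases h1 with h1 | h1
    · have h2 := h5 h1 hd
      have h3 := Nat.le_of_dvd (by omega) htn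
      omega
    · rw [h1] at htn
      have h2 := Nat.le_of_dvd (by norm_num) htn
      interval_cases t
      · exact absurd hodd (by decide)
      · omega
      · exact absurd ht (by norm_num)
  -- dimensions
  set y := z i * (z j)⁻¹ with hy
  have hR : finrank F (Rg (rU n F q) y) ≤ 2 := by
    have h1 : Rg (rU n F q) y ≤ Rg (rU n F q) (z i) ⊔ Rg (rU n F q) (z j) := by
      refine (Rg_mul_le _ _).trans (sup_le le_sup_left (le_trans ?_ le_sup_right))
      intro w hw
      obtain ⟨v, rfl⟩ := mem_Rg'.mp hw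
      have h2 : gm (z j)⁻¹ *ᵥ v - v = -(gm (z j) *ᵥ (gm (z j)⁻¹ *ᵥ v) - gm (z j)⁻¹ *ᵥ v) := by
        rw [gm_mulVec_inv]; abel
      rw [h2]
      exact Submodule.neg_mem _ (mem_Rg'.mpr ⟨_, rfl⟩)
    have h2 := (Submodule.finrank_mono h1).trans (Submodule.finrank_add_le_finrank_add_finrank _ _)
    have h3 := hz.finrank_At i
    have h4 := hz.finrank_At j
    rw [hd] at h3 h4
    change finrank F (Rg (rU n F q) (z i)) = 1 at h3
    change finrank F (Rg (rU n F q) (z j)) = 1 at h4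
    omega
  have hker := LinearMap.finrank_range_add_finrank_ker (rU n F q y - 1)
  rw [finrank_fin_fun] at hker
  change finrank F (Rg (rU n F q) y) + _ = n at hker
  -- the semilinear map sends the kernel into the range
  have hmap : ∀ x ∈ LinearMap.ker (rU n F q y - 1), sg A τ x ∈ Rg (rU n F q) y := by
    intro x hx
    have h1 : gm y *ᵥ x = x := by
      rw [LinearMap.mem_ker, LinearMap.sub_apply] at hx
      exact sub_eq_zero.mp hx
    have h2 := hc x
    rw [h1] at h2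
    have h0 : c ≠ 0 := by
      rintro rfl
      rw [zero_pow (by omega : n ≠ 0)] at hcn
      exact zero_ne_one hcn
    have h3 : (c⁻¹ - 1) ≠ 0 := by
      intro h
      rw [sub_eq_zero, inv_eq_one] at h
      exact hc1 h
    have h4 : gm y *ᵥ sg A τ x = c⁻¹ • sg A τ x := by
      conv_rhs => rw [h2, smul_smul, inv_mul_cancel₀ h0, one_smul]
    have h5 : sg A τ x = (c⁻¹ - 1)⁻¹ • (gm y *ᵥ sg A τ x - sg A τ x) := by
      rw [h4, show c⁻¹ • sg A τ x - sg A τ x = (c⁻¹ - 1) • sg A τ x by rw [sub_smul, one_smul], smul_smul,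
        inv_mul_cancel₀ h3, one_smul]
    rw [h5]
    exact Submodule.smul_mem _ _ (mem_Rg'.mpr ⟨_, rfl⟩)
  have hcard : Nat.card (LinearMap.ker (rU n F q y - 1)) ≤ Nat.card (Rg (rU n F q) y) :=
    Nat.card_le_card_of_injective (fun x => ⟨sg A τ x, hmap x x.2⟩) fun x x' h =>
      Subtype.ext (sg_inj A τ (congrArg Subtype.val h))
  rw [Module.natCard_eq_pow_finrank (K := F), Module.natCard_eq_pow_finrank (K := F) (V := Rg (rU n F q) y)] at hcard
  have h6 := (Nat.pow_le_pow_iff_right (Finite.one_lt_card (α := F))).mp hcard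
  omega

/-- vectors fixed by all `z k`, `k ≠ i` -/
theorem mem_At (hz : Fr q H t a z) (hd : eU q t = 1) (i : Fin a) {x : Fin n → F}
    (hx : ∀ k, k ≠ i → gm (z k) *ᵥ x = x) : x ∈ At z i := by
  obtain ⟨w, hw, b, hb, h⟩ := exists_decomp (ρ := rU n F q) hz.ne (hz.pow i) x
  have h1 : b = 0 := by
    refine fix_zero hz hd fun k => ?_
    by_cases hk : k = i
    · rw [hk]; exact hb
    · have h2 := hx k hk
      rw [h, mulVec_add, hz.fix_of_ne hk hw] at h2
      exact add_left_cancel h2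
  rw [h, h1, add_zero]
  exact hw

/-- the lines are invariant -/
theorem sv_one (hF : Fintype.card F = q ^ 2) (hn : 3 ≤ n) (hU : Up π P H) (hfix : ∀ k ∈ K, ∀ x ∈ P, k x = x)
    (hz : Fr q H t a z) (h5 : n = 3 → eU q t = 1 → 5 ≤ t) (hd : eU q t = 1) {A : GU n F q} {τ : F ≃+* F}
    (hA : toAut A τ ∈ K) (i : Fin a) {w : Fin n → F} (hw : w ∈ At z i) : sg A τ w ∈ At z i := by
  have ha := a_eq hz hd
  refine mem_At hz hd i fun k hk => ?_
  obtain ⟨j, hji, hjk⟩ : ∃ j : Fin a, j ≠ i ∧ j ≠ k := by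
    have h1 : ({i, k} : Finset (Fin a)).card < (Finset.univ : Finset (Fin a)).card := by
      rw [Finset.card_univ, Fintype.card_fin]
      exact (Finset.card_le_two).trans_lt (by omega)
    obtain ⟨j, -, hj⟩ := Finset.exists_mem_notMem_of_card_lt_card h1
    rw [Finset.mem_insert, Finset.mem_singleton, not_or] at hj
    exact ⟨j, hj.1, hj.2⟩
  have h1 := comm_y hF hn hU hfix hz h5 hd hA k j w
  have h2 : gm (z k * (z j)⁻¹) *ᵥ w = w := by
    have h3 : gm (z j)⁻¹ *ᵥ w = w := by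
      conv_lhs => rw [← hz.fix_of_ne hji hw]
      rw [gm_inv_mulVec]
    rw [gm_mul, ← mulVec_mulVec, h3, hz.fix_of_ne hk hw]
  rw [h2] at h1
  set x := sg A τ w with hx
  have hc : z k * (z j)⁻¹ = (z j)⁻¹ * z k := by
    have h3 : Commute (z k) (z j)⁻¹ := (show Commute (z k) (z j) from hz.fm.comm k j).inv_right
    exact h3
  have h4 : gm (z j) *ᵥ x = gm (z k) *ᵥ x := by
    conv_lhs => rw [h1, hc, gm_mul, ← mulVec_mulVec, gm_mulVec_inv]
  have h5' : gm (z k) *ᵥ x - x ∈ At z j := by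
    rw [← h4]
    exact mem_Rg'.mpr ⟨x, rfl⟩
  have h6 : gm (z k) *ᵥ x - x = 0 :=
    hz.eq_zero (mem_Rg'.mpr ⟨x, rfl⟩ : gm (z k) *ᵥ x - x ∈ At z k) (hz.fix_of_ne hjk.symm h5')
  exact sub_eq_zero.mp h6

/-- `z i` is a scalar on its line -/
theorem exists_scal (hz : Fr q H t a z) (hd : eU q t = 1) (i : Fin a) :
    ∃ (b : Fin n → F) (w : F), b ∈ At z i ∧ b ≠ 0 ∧ (∀ x ∈ At z i, gm (z i) *ᵥ x = w • x) ∧ w ≠ 1 ∧ w ^ t = 1 := by
  have h1 := hz.finrank_At i
  rw [hd] at h1
  obtain ⟨⟨b, hb⟩, hb0, hspan⟩ := finrank_eq_one_iff'.mp h1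
  have hb1 : b ≠ 0 := fun h => hb0 (Subtype.ext h)
  have hsp : ∀ x ∈ At z i, ∃ c : F, c • b = x := fun x hx => by
    obtain ⟨c, hc⟩ := hspan ⟨x, hx⟩
    exact ⟨c, congrArg Subtype.val hc⟩
  have h2 : gm (z i) *ᵥ b ∈ At z i := map_Rg (ρ := rU n F q) hb
  obtain ⟨w, hw⟩ := hsp _ h2
  have h3 : ∀ x ∈ At z i, gm (z i) *ᵥ x = w • x := by
    intro x hx
    obtain ⟨c, rfl⟩ := hsp x hx
    rw [mulVec_smul, ← hw, smul_comm]
  refine ⟨b, w, hb, hb1, h3, ?_, ?_⟩
  · rintro rfl
    rw [one_smul] at hw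
    exact hb1 (hz.eq_zero hb hw.symm)
  · have h4 : ∀ k : ℕ, gm (z i ^ k) *ᵥ b = w ^ k • b := by
      intro k
      induction k with
      | zero => rw [pow_zero, pow_zero, one_smul, Cfsg.Agent.ClassicalGeometry.PSUAutCount.gm_one, one_mulVec]
      | succ k ih => rw [pow_succ, gm_mul, ← mulVec_mulVec, ← hw, mulVec_smul, ih, smul_smul, pow_succ, mul_comm]
    have h5 := h4 t
    rw [hz.pow i, Cfsg.Agent.ClassicalGeometry.PSUAutCount.gm_one, one_mulVec] at h5
    have h6 : (w ^ t - 1) • b = 0 := by rw [sub_smul, one_smul, ← h5, sub_self]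
    rcases smul_eq_zero.mp h6 with h | h
    · exact sub_eq_zero.mp h
    · exact absurd h hb1

end one

/-- **Task E** -/
theorem K_st (hF : Fintype.card F = q ^ 2) (hn : 3 ≤ n)
    (h32 : ¬ (n = 3 ∧ q = 2)) {P : Subgroup (PSU n F q)} {K : Subgroup (MulAut (PSU n F q))}
    {H : Subgroup (GU n F q)} (hU : Up π P H) (hfix : ∀ k ∈ K, ∀ x ∈ P, k x = x) {z : Fin a → GU n F q}
    (hz : Fr q H t a z) (h5 : n = 3 → eU q t = 1 → 5 ≤ t) {A : GU n F q} {τ : F ≃+* F} (hA : toAut A τ ∈ K) :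
    (∀ i, Sv A τ (Rg (rU n F q) (z i))) ∧
      (∀ v : Fin n → F, (∀ i, gm (z i) *ᵥ v = v) → ∀ i, gm (z i) *ᵥ (gm A *ᵥ fun j => τ (v j)) = gm A *ᵥ fun j => τ (v j)) ∧
      (τ = 1 → A ∈ Cz z) ∧ ((∀ x, τ x = x ^ q) → Even (eU q t)) := by
  by_cases hd : eU q t = 1
  · have hsv : ∀ i, ∀ w ∈ At z i, sg A τ w ∈ At z i := fun i w hw => sv_one hF hn hU hfix hz h5 hd hA i hw
    refine ⟨fun i w hw => hsv i w hw, fun v hv i => ?_, fun hτ => ?_, fun hτ => ?_⟩
    · have h1 := fix_zero hz hd hv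
      have h2 : sg A τ v = 0 := by rw [h1, sg_zero]
      show gm (z i) *ᵥ sg A τ v = sg A τ v
      rw [h2, mulVec_zero]
    · subst hτ
      rw [Cz, mem_centralizer_iff]
      rintro _ ⟨i, rfl⟩
      have hs : ∀ v, sg A 1 v = gm A *ᵥ v := fun v => rfl
      apply gm_inj
      rw [gm_mul, gm_mul]
      apply Matrix.toLin'.injective
      apply LinearMap.ext
      intro v
      rw [Matrix.toLin'_apply, Matrix.toLin'_apply, ← mulVec_mulVec, ← mulVec_mulVec, ← hs, ← hs]
      have hfin : Finite (GU n F q) := LieClassical.GUOrder.finite_GU n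
      obtain ⟨w, hw, b, hb, h⟩ := exists_decomp (ρ := rU n F q) hz.ne (hz.pow i) v
      obtain ⟨-, c, -, -, hc, -, -⟩ := exists_scal hz hd i
      have hb' : gm (z i) *ᵥ b = b := hb
      -- `b` is a sum of vectors in the other lines
      have hb1 : gm (z i) *ᵥ sg A 1 b = sg A 1 b := by
        obtain ⟨v0, hv0, u, hu, h⟩ := Cfsg.Agent.H199.DPL.dec (ρ := rU n F q) (e := eU q) hz.ne hz.fm b
        have h1 : v0 = 0 := fix_zero hz hd hv0
        rw [h1, zero_add] at h
        have h2 : u i = 0 := by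
          apply hz.eq_zero (hu i)
          have h3 : gm (z i) *ᵥ (∑ k, u k) - ∑ k, u k = gm (z i) *ᵥ u i - u i := by
            rw [Matrix.mulVec_sum, ← Finset.sum_sub_distrib]
            refine Finset.sum_eq_single_of_mem i (Finset.mem_univ i) fun k _ hik => ?_
            rw [hz.fix_of_ne (Ne.symm hik) (hu k), sub_self]
          rw [← h, hb', sub_self] at h3
          exact sub_eq_zero.mp h3.symm
        rw [h, sg_sum, Matrix.mulVec_sum]
        refine Finset.sum_congr rfl fun k _ => ?_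
        by_cases hk : k = i
        · rw [hk, h2, sg_zero, mulVec_zero]
        · exact hz.fix_of_ne (Ne.symm hk) (hsv k _ (hu k))
      rw [h, mulVec_add, sg_add, sg_add, mulVec_add, hb', hb1, hc w hw, hc _ (hsv i w hw)]
      rw [sg_smul]
      rfl
    · exfalso
      have ha := a_eq hz hd
      let i : Fin a := ⟨0, by omega⟩
      let j : Fin a := ⟨1, by omega⟩
      have hij : j ≠ i := by
        intro h
        exact absurd (congrArg Fin.val h) one_ne_zero
      obtain ⟨b, w, hb, hb0, hw, hw1, hwt⟩ := exists_scal hz hd i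
      have h1 := comm_y hF hn hU hfix hz h5 hd hA i j b
      have h2 : ∀ x ∈ At z i, gm (z i * (z j)⁻¹) *ᵥ x = w • x := by
        intro x hx
        have h3 : gm (z j)⁻¹ *ᵥ x = x := by
          conv_lhs => rw [← hz.fix_of_ne hij hx]
          rw [gm_inv_mulVec]
        rw [gm_mul, ← mulVec_mulVec, h3, hw x hx]
      rw [h2 b hb, h2 _ (hsv i b hb), sg_smul, hτ] at h1
      have h3 : (w ^ q - w) • sg A τ b = 0 := by rw [sub_smul, h1, sub_self]
      rcases smul_eq_zero.mp h3 with h | h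
      · obtain ⟨k, hk⟩ := dvd_of_d hd
        have h4 : w ^ (q + 1) = 1 := by rw [hk, pow_mul, hwt, one_pow]
        rw [pow_succ, sub_eq_zero.mp h, ← sq] at h4
        refine hw1 (eq_one_of_pow hz.ht hwt h4 fun h5 => ?_)
        have h6 := Nat.le_of_dvd (by norm_num) h5
        have h7 := hz.ht.two_le
        have h8 : t = 2 := by omega
        have h9 := hz.odd
        rw [h8] at h9
        exact absurd h9 (by decide)
      · exact hb0 (sg_inj A τ (by rw [h, sg_zero]))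
  · have hcomm : ∀ i x, sg A τ (gm (z i) *ᵥ x) = gm (z i) *ᵥ sg A τ x := fun i x =>
      comm_of_two hF hn hU hfix hz hd hA i x
    refine ⟨fun i w hw => ?_, fun v hv i => ?_, fun hτ => ?_, fun hτ => ?_⟩
    · obtain ⟨v, rfl⟩ := mem_Rg'.mp hw
      show sg A τ _ ∈ _
      rw [sg_sub, hcomm]
      exact mem_Rg'.mpr ⟨_, rfl⟩
    · show gm (z i) *ᵥ sg A τ v = sg A τ v
      rw [← hcomm, hv i]
    · subst hτ
      rw [Cz, mem_centralizer_iff]
      rintro _ ⟨i, rfl⟩
      apply gm_inj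
      rw [gm_mul, gm_mul]
      apply Matrix.toLin'.injective
      apply LinearMap.ext
      intro v
      rw [Matrix.toLin'_apply, Matrix.toLin'_apply, ← mulVec_mulVec, ← mulVec_mulVec]
      exact (hcomm i v).symm
    · exact Cfsg.Agent.H735.DPU.even_of_semi hF hz ⟨0, hz.a_pos hF⟩ A τ hτ fun v => (hcomm _ v).symm

end Cfsg.Agent.H199.DPU
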